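import Mathlib
import Cfsg.Agent.Lib.H27.B60Core

/-!
# Blichfeldt's 60-degree theorem as a stabilisation statement (helper1, for S4484)

`G` finite, `R : G →* (V ≃ₗᵢ[ℂ] V)`.  If `‖R a v - ε • v‖ < ‖v‖` for all `v ≠ 0` (`‖ε‖ = 1`) and
`K = ker (R a - ε)`, then every `b : G` such that `R b` is within distance `< 1` of a unit scalar
maps `K` into itself.  No irreducibility, no primitivity, no compactness.
-/

set_option autoImplicit false

namespace Cfsg.Agent.Lib.H1.BB

open scoped InnerProductSpace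
open Cfsg.Agent.Lib.H27.B60

variable {V : Type*} [NormedAddCommGroup V] [InnerProductSpace ℂ V] [FiniteDimensional ℂ V]

/-- `T` is within distance `< 1` of the scalar `ε`, pointwise. -/
def Close (T : V ≃ₗᵢ[ℂ] V) (ε : ℂ) : Prop := ∀ v : V, v ≠ 0 → ‖T v - ε • v‖ < ‖v‖

theorem Close.le {T : V ≃ₗᵢ[ℂ] V} {ε : ℂ} (h : Close T ε) (v : V) : ‖T v - ε • v‖ ≤ ‖v‖ := by
  by_cases hv : v = 0
  · subst hv; simp
  · exact (h v hv).le

/-- conjugates of close elements are close -/
theorem Close.conj {T : V ≃ₗᵢ[ℂ] V} {ε : ℂ} (h : Close T ε) (C : V ≃ₗᵢ[ℂ] V) :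
    Close (C⁻¹ * T * C) ε := by
  intro v hv
  have hCv : C v ≠ 0 := by
    intro h0
    apply hv
    have := congrArg C.symm h0
    simpa using this
  have h1 := h (C v) hCv
  rw [LinearIsometryEquiv.norm_map] at h1
  have h2 : (C⁻¹ * T * C) v - ε • v = C⁻¹ (T (C v) - ε • C v) := by
    rw [map_sub, map_smul]
    have e1 : (C⁻¹ * T * C) v = C⁻¹ (T (C v)) := rfl
    have e2 : C⁻¹ (C v) = v := by
      show C.symm (C v) = v
      simp
    rw [e1, e2]
  rw [h2, LinearIsometryEquiv.norm_map]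
  exact h1

/-- the numerical range of a close element avoids `0` -/
theorem Close.inner_ne_zero {T : V ≃ₗᵢ[ℂ] V} {ε : ℂ} (hε : ‖ε‖ = 1) (h : Close T ε) (v : V)
    (hv : v ≠ 0) : ⟪v, T v⟫_ℂ ≠ 0 := by
  intro h0
  have h1 : ⟪v, T v - ε • v⟫_ℂ = - (ε * ⟪v, v⟫_ℂ) := by
    rw [inner_sub_right, h0, inner_smul_right, zero_sub]
  have h2 : ‖⟪v, T v - ε • v⟫_ℂ‖ ≤ ‖v‖ * ‖T v - ε • v‖ := norm_inner_le_norm _ _
  have h3 : ‖⟪v, T v - ε • v⟫_ℂ‖ = ‖v‖ * ‖v‖ := by
    rw [h1, norm_neg, norm_mul, hε, one_mul, inner_self_eq_norm_sq_to_K]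
    simp [pow_two]
  have hvpos : 0 < ‖v‖ := norm_pos_iff.2 hv
  have h4 := h v hv
  rw [h3] at h2
  nlinarith

/-- distance to a subspace via the orthogonal projection -/
theorem norm_sub_starProjection_le (K : Submodule ℂ V) (w k : V) (hk : k ∈ K) :
    ‖w - K.starProjection w‖ ≤ ‖w - k‖ := by
  have h1 : w - k = (w - K.starProjection w) + (K.starProjection w - k) := by abel
  have h2 : ⟪w - K.starProjection w, K.starProjection w - k⟫_ℂ = 0 := by
    have hmem : K.starProjection w - k ∈ K :=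
      K.sub_mem (Submodule.starProjection_apply_mem K w) hk
    exact Submodule.inner_left_of_mem_orthogonal hmem
      (Submodule.sub_starProjection_mem_orthogonal w)
  have h3 : ‖w - k‖ ^ 2 = ‖w - K.starProjection w‖ ^ 2 + ‖K.starProjection w - k‖ ^ 2 := by
    rw [h1]
    have := norm_add_sq_eq_norm_sq_add_norm_sq_of_inner_eq_zero _ _ h2
    simpa [pow_two] using this
  have h4 : ‖w - K.starProjection w‖ ^ 2 ≤ ‖w - k‖ ^ 2 := by
    rw [h3]; nlinarith [sq_nonneg ‖K.starProjection w - k‖]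
  exact (pow_le_pow_iff_left₀ (norm_nonneg _) (norm_nonneg _) two_ne_zero).1 h4

/-- `r K w` = distance from `w` to `K` -/
noncomputable def rr (K : Submodule ℂ V) (w : V) : ℝ := ‖w - K.starProjection w‖

theorem rr_eq_zero_iff (K : Submodule ℂ V) (w : V) : rr K w = 0 ↔ w ∈ K := by
  unfold rr
  rw [norm_eq_zero, sub_eq_zero]
  constructor
  · intro h
    rw [h]
    exact Submodule.starProjection_apply_mem K w
  · intro h
    exact (Submodule.starProjection_eq_self_iff.2 h).symm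

/-- CONTRACTION (pointwise): for `v ∈ K = ker (A - ε)`, the conjugate `C⁻¹ A C` moves `v` out of
`K` by less than `C` does. -/
theorem contraction {A : V ≃ₗᵢ[ℂ] V} {ε : ℂ} (hA : Close A ε) (C : V ≃ₗᵢ[ℂ] V) (v : V)
    (hv : v ∈ eig A ε) :
    rr (eig A ε) ((C⁻¹ * A * C) v) ≤ rr (eig A ε) (C v) ∧
      (rr (eig A ε) (C v) ≠ 0 → rr (eig A ε) ((C⁻¹ * A * C) v) < rr (eig A ε) (C v)) := by
  set K := eig A ε with hK
  set u := C v - K.starProjection (C v) with hu
  have hPmem : K.starProjection (C v) ∈ K := Submodule.starProjection_apply_mem K (C v)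
  have hAP : A (K.starProjection (C v)) = ε • K.starProjection (C v) := mem_eig.1 hPmem
  have hCv : C v = K.starProjection (C v) + u := by rw [hu]; abel
  have h1 : A (C v) - ε • C v = A u - ε • u := by
    conv_lhs => rw [hCv]
    rw [map_add, hAP, smul_add]
    abel
  have e1 : (C⁻¹ * A * C) v = C⁻¹ (A (C v)) := rfl
  have e2 : C⁻¹ (C v) = v := by
    show C.symm (C v) = v
    simp
  have h2 : (C⁻¹ * A * C) v - ε • v = C⁻¹ (A u - ε • u) := by
    rw [← h1, map_sub, map_smul, e1, e2]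
  have hεv : ε • v ∈ K := K.smul_mem ε hv
  have h3 : rr K ((C⁻¹ * A * C) v) ≤ ‖A u - ε • u‖ := by
    unfold rr
    have := norm_sub_starProjection_le K ((C⁻¹ * A * C) v) (ε • v) hεv
    rw [h2, LinearIsometryEquiv.norm_map] at this
    exact this
  have h4 : rr K (C v) = ‖u‖ := rfl
  refine ⟨?_, ?_⟩
  · rw [h4]
    exact le_trans h3 (hA.le u)
  · intro hne
    rw [h4] at hne ⊢
    have hu0 : u ≠ 0 := fun h => hne (by rw [h, norm_zero])
    exact lt_of_le_of_lt h3 (hA u hu0)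

/-- LEMMA F: if `B` has nonvanishing numerical range and `B⁻¹ A B` stabilises `K = ker (A - ε)`
then `B` stabilises `K`. -/
theorem lemmaF {A B : V ≃ₗᵢ[ℂ] V} {ε : ℂ} (N : ℕ) (hN : 0 < N) (hAN : A ^ N = 1)
    (hεN : ε ^ N = 1) (hB : ∀ v : V, v ≠ 0 → ⟪v, B v⟫_ℂ ≠ 0)
    (hstab : ∀ v ∈ eig A ε, (B⁻¹ * A * B) v ∈ eig A ε) :
    ∀ v ∈ eig A ε, B v ∈ eig A ε := by
  set K := eig A ε with hK
  set A1 : V ≃ₗᵢ[ℂ] V := B⁻¹ * A * B with hA1
  set K1 := eig A1 ε with hK1
  have hA1N : A1 ^ N = 1 := by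
    have : ∀ n : ℕ, A1 ^ n = B⁻¹ * A ^ n * B := by
      intro n
      induction n with
      | zero => simp
      | succ n ih => rw [pow_succ, ih, hA1, pow_succ]; group
    rw [this, hAN]; group
  -- `w ∈ K1 ↔ B w ∈ K`
  have hK1K : ∀ w : V, w ∈ K1 → B w ∈ K := by
    intro w hw
    have h1 : A1 w = ε • w := mem_eig.1 hw
    have h2 : A1 w = B⁻¹ (A (B w)) := rfl
    rw [mem_eig]
    have h3 : B (A1 w) = A (B w) := by
      rw [h2]
      show B (B.symm (A (B w))) = A (B w)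
      simp
    rw [← h3, h1, map_smul]
  have hKK1 : ∀ k : V, k ∈ K → B⁻¹ k ∈ K1 := by
    intro k hk
    rw [mem_eig]
    have h2 : A1 (B⁻¹ k) = B⁻¹ (A (B (B⁻¹ k))) := rfl
    have h3 : B (B⁻¹ k) = k := by
      show B (B.symm k) = k
      simp
    rw [h2, h3, mem_eig.1 hk, map_smul]
  intro v hv
  set z := K1.starProjection v with hz
  have hzK : z ∈ K := starProjection_eig_mem A1 N hN hA1N ε hεN K hstab hv
  have hzK1 : z ∈ K1 := Submodule.starProjection_apply_mem K1 v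
  set u := v - z with hu
  have huK : u ∈ K := K.sub_mem hv hzK
  have huorth : u ∈ K1ᗮ := Submodule.sub_starProjection_mem_orthogonal v
  have h0 : ⟪u, B u⟫_ℂ = 0 := by
    have h1 : ⟪B⁻¹ u, u⟫_ℂ = 0 :=
      Submodule.inner_right_of_mem_orthogonal (hKK1 u huK) huorth
    have h2 : ⟪B (B⁻¹ u), B u⟫_ℂ = ⟪B⁻¹ u, u⟫_ℂ := LinearIsometryEquiv.inner_map_map _ _ _
    have h3 : B (B⁻¹ u) = u := by
      show B (B.symm u) = u
      simp
    rw [h3] at h2
    rw [h2, h1]
  have hu0 : u = 0 := by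
    by_contra hne
    exact hB u hne h0
  have hvz : v = z := by
    have := sub_eq_zero.1 (hu ▸ hu0 : v - z = 0)
    exact this
  rw [hvz]
  exact hK1K z hzK1

variable {G : Type*} [Group G] [Finite G]

/-- **Blichfeldt's theorem, stabilisation form.** -/
theorem blichfeldt_stab (R : G →* (V ≃ₗᵢ[ℂ] V)) (a : G) (ε : ℂ) (ha : Close (R a) ε)
    (b : G) (ε' : ℂ) (hε' : ‖ε'‖ = 1) (hb : Close (R b) ε') :
    ∀ v ∈ eig (R a) ε, R b v ∈ eig (R a) ε := by
  classical
  set K := eig (R a) ε with hK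
  by_cases hKbot : K = ⊥
  · intro v hv
    rw [hKbot, Submodule.mem_bot] at hv
    rw [hv, map_zero]
    exact K.zero_mem
  obtain ⟨k, hkK, hk0⟩ := (Submodule.ne_bot_iff K).1 hKbot
  set N := Nat.card G with hN
  have hNpos : 0 < N := Nat.card_pos
  have hpowN : ∀ c : G, R c ^ N = 1 := by
    intro c
    rw [← map_pow, hN, pow_card_eq_one', map_one]
  have hεN : ε ^ N = 1 := by
    have h1 : (R a ^ N) k = ε ^ N • k := pow_apply_of_mem_eig hkK N
    rw [hpowN a] at h1
    have h2 : (ε ^ N - 1) • k = 0 := by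
      rw [sub_smul, one_smul, ← h1]
      simp
    rcases smul_eq_zero.1 h2 with h | h
    · exact sub_eq_zero.1 h
    · exact absurd h hk0
  -- a finite spanning family of `K`
  set e := Module.finBasis ℂ V with he
  set vj : Fin (Module.finrank ℂ V) → V := fun j => K.starProjection (e j) with hvj
  have hvjK : ∀ j, vj j ∈ K := fun j => Submodule.starProjection_apply_mem K (e j)
  set q : G → ℝ := fun c => ∑ j, (rr K (R c (vj j))) ^ 2 with hq
  have hstab_of : ∀ c : G, (∀ j, rr K (R c (vj j)) = 0) → ∀ v ∈ K, R c v ∈ K := by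
    intro c hc v hv
    have h1 : v = ∑ j, (e.repr v j) • vj j := by
      have h2 : K.starProjection v = v := Submodule.starProjection_eq_self_iff.2 hv
      conv_lhs => rw [← h2, ← e.sum_repr v]
      rw [map_sum]
      refine Finset.sum_congr rfl fun j _ => ?_
      rw [map_smul]
    rw [h1, map_sum]
    refine K.sum_mem fun j _ => ?_
    rw [map_smul]
    exact K.smul_mem _ ((rr_eq_zero_iff K _).1 (hc j))
  -- the bad elements
  by_contra hbad
  let Bad : Type _ := {c : G // (∃ δ : ℂ, ‖δ‖ = 1 ∧ Close (R c) δ) ∧ ¬ ∀ v ∈ K, R c v ∈ K}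
  haveI : Nonempty Bad := ⟨⟨b, ⟨ε', hε', hb⟩, hbad⟩⟩
  haveI : Finite Bad := Subtype.finite
  obtain ⟨c0, hc0min⟩ := Finite.exists_min (fun c : Bad => q c.1)
  obtain ⟨⟨δ, hδ, hcδ⟩, hc0bad⟩ := c0.2
  set c1 : G := c0.1⁻¹ * a * c0.1 with hc1
  have hRc1 : R c1 = (R c0.1)⁻¹ * R a * R c0.1 := by
    rw [hc1, map_mul, map_mul, map_inv]
  have hc1close : Close (R c1) ε := by
    rw [hRc1]
    exact ha.conj (R c0.1)
  -- `q c1 < q c0`
  have hex : ∃ j, rr K (R c0.1 (vj j)) ≠ 0 := by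
    by_contra hno
    push Not at hno
    exact hc0bad (hstab_of c0.1 hno)
  have hlt : q c1 < q c0.1 := by
    simp only [hq]
    apply Finset.sum_lt_sum
    · intro j _
      have := (contraction ha (R c0.1) (vj j) (hvjK j)).1
      rw [← hRc1] at this
      exact pow_le_pow_left₀ (norm_nonneg _) this 2
    · obtain ⟨j, hj⟩ := hex
      refine ⟨j, Finset.mem_univ j, ?_⟩
      have := (contraction ha (R c0.1) (vj j) (hvjK j)).2 hj
      rw [← hRc1] at this
      exact pow_lt_pow_left₀ this (norm_nonneg _) two_ne_zero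
  -- so `c1` is not bad
  have hc1stab : ∀ v ∈ K, R c1 v ∈ K := by
    by_contra hno
    have := hc0min ⟨c1, ⟨ε, norm_eq_one_of_pow hNpos hεN, hc1close⟩, hno⟩
    exact absurd hlt (not_lt.2 this)
  -- Lemma F
  apply hc0bad
  refine lemmaF N hNpos (hpowN a) hεN (fun v hv => hcδ.inner_ne_zero hδ v hv) ?_
  intro v hv
  have := hc1stab v hv
  rw [hRc1] at this
  exact this

end Cfsg.Agent.Lib.H1.BB
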