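import Mathlib
import Cfsg.Agent.Lib.H1.Blich.BL
import Cfsg.Agent.Lib.H1.JordanE

/-!
# S4484, part (X): `b60_contra` through the stabilisation form of Blichfeldt's theorem (helper1)
-/

set_option autoImplicit false

namespace Cfsg.Agent.Lib.H1.BB

open scoped InnerProductSpace
open Cfsg.Agent.Lib.H27.B60 Cfsg.Agent.Lib.H1.Jordan

section Close

variable {V : Type*} [NormedAddCommGroup V] [InnerProductSpace ℂ V] [FiniteDimensional ℂ V]

/-- (CLOSE) an isometry with an orthonormal eigenbasis all of whose eigenvalues are at distance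
`< 1` from `ε` is close to `ε`. -/
theorem close_of_eig {n : ℕ} (T : V ≃ₗᵢ[ℂ] V) (b : OrthonormalBasis (Fin n) ℂ V) (c : Fin n → ℂ)
    (hT : ∀ k, T (b k) = c k • b k) (ε : ℂ) (hc : ∀ k, ‖c k - ε‖ < 1) : Close T ε := by
  intro v hv
  have h1 : ∀ k, ⟪b k, T v - ε • v⟫_ℂ = (c k - ε) * ⟪b k, v⟫_ℂ := by
    intro k
    rw [inner_sub_right, inner_eig hT k v, inner_smul_right, sub_mul]
  have h2 : ‖T v - ε • v‖ ^ 2 = ∑ k, ‖⟪b k, T v - ε • v⟫_ℂ‖ ^ 2 :=
    (b.sum_sq_norm_inner_right _).symm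
  have h3 : ‖v‖ ^ 2 = ∑ k, ‖⟪b k, v⟫_ℂ‖ ^ 2 := (b.sum_sq_norm_inner_right _).symm
  have hex : ∃ k, ⟪b k, v⟫_ℂ ≠ 0 := by
    by_contra hno
    push Not at hno
    apply hv
    have := h3
    rw [Finset.sum_eq_zero (fun k _ => by rw [hno k, norm_zero]; ring)] at this
    exact norm_eq_zero.1 (pow_eq_zero_iff two_ne_zero |>.1 this)
  have hlt : ‖T v - ε • v‖ ^ 2 < ‖v‖ ^ 2 := by
    rw [h2, h3]
    apply Finset.sum_lt_sum
    · intro k _
      rw [h1 k, norm_mul, mul_pow]
      have := hc k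
      have h0 : ‖c k - ε‖ ^ 2 ≤ 1 := by nlinarith [norm_nonneg (c k - ε)]
      nlinarith [sq_nonneg ‖⟪b k, v⟫_ℂ‖]
    · obtain ⟨k, hk⟩ := hex
      refine ⟨k, Finset.mem_univ k, ?_⟩
      rw [h1 k, norm_mul, mul_pow]
      have := hc k
      have h0 : ‖c k - ε‖ ^ 2 < 1 := by nlinarith [norm_nonneg (c k - ε)]
      have hpos : 0 < ‖⟪b k, v⟫_ℂ‖ ^ 2 := by
        have : 0 < ‖⟪b k, v⟫_ℂ‖ := norm_pos_iff.2 hk
        positivity
      nlinarith
  exact lt_of_pow_lt_pow_left₀ 2 (norm_nonneg _) hlt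

end Close

/-- unit complex numbers with `Re (conj w * z) > 1/2` are at distance `< 1`. -/
theorem norm_sub_lt_one_of_re {z w : ℂ} (hz : ‖z‖ = 1) (hw : ‖w‖ = 1)
    (h : 1 / 2 < ((starRingEnd ℂ) w * z).re) : ‖z - w‖ < 1 := by
  have h1 : ‖z - w‖ ^ 2 = ‖z‖ ^ 2 + ‖w‖ ^ 2 - 2 * ((starRingEnd ℂ) w * z).re := by
    rw [← Complex.normSq_eq_norm_sq, ← Complex.normSq_eq_norm_sq, ← Complex.normSq_eq_norm_sq,
      Complex.normSq_sub]
    have : (z * (starRingEnd ℂ) w).re = ((starRingEnd ℂ) w * z).re := by rw [mul_comm]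
    rw [this]
  rw [hz, hw] at h1
  have h2 : ‖z - w‖ ^ 2 < 1 := by rw [h1]; linarith
  nlinarith [norm_nonneg (z - w)]

/-- (XFINAL), exact signature of `tools/blueprints/S4484_sigs.lean`. -/
theorem b60_contra {G : Type*} [Group G] [Finite G] [IsSimpleGroup G]
    (hna : ∃ g h : G, g * h ≠ h * g) {n : ℕ}
    (R : G →* (EuclideanSpace ℂ (Fin n) ≃ₗᵢ[ℂ] EuclideanSpace ℂ (Fin n)))
    (hirr : ∀ W : Submodule ℂ (EuclideanSpace ℂ (Fin n)), (∀ g, ∀ w ∈ W, R g w ∈ W) → W = ⊥ ∨ W = ⊤)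
    (hinj : Function.Injective R) {p : ℕ} (hp : p.Prime) (x : G) (hx : orderOf x = p)
    (b : OrthonormalBasis (Fin n) ℂ (EuclideanSpace ℂ (Fin n))) (a : Fin n → ℂ)
    (hb : ∀ k, R x (b k) = a k • b k) (hcard : (Finset.univ.image a).card < p)
    (d : ℕ) (hd1 : 1 ≤ d) (hdp : d < p) (k₁ : Fin n)
    (hnear : ∀ k, 1 / 2 < ((starRingEnd ℂ) (a k₁ ^ d) * a k ^ d).re) : False := by
  classical
  obtain ⟨g₀, h₀, hgh⟩ := hna
  set y := x ^ d with hy
  set ε := a k₁ ^ d with hε
  have hyne : y ≠ 1 := by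
    intro h
    have h1 : orderOf x ∣ d := orderOf_dvd_of_pow_eq_one h
    rw [hx] at h1
    exact absurd (Nat.le_of_dvd hd1 h1) (not_le.2 hdp)
  have hRy : ∀ k, R y (b k) = a k ^ d • b k := by
    intro k
    rw [hy, map_pow]
    exact pow_eig hb d k
  have hnorm : ∀ k, ‖a k ^ d‖ = 1 := fun k => by rw [norm_pow, norm_eig hb k, one_pow]
  have hclose : Close (R y) ε :=
    close_of_eig (R y) b (fun k => a k ^ d) hRy ε
      (fun k => norm_sub_lt_one_of_re (hnorm k) (hnorm k₁) (hnear k))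
  set K := eig (R y) ε with hK
  -- every conjugate of `y` stabilises `K`
  have hconj : ∀ c : G, ∀ v ∈ K, R (c⁻¹ * y * c) v ∈ K := by
    intro c
    have h1 : Close (R (c⁻¹ * y * c)) ε := by
      rw [map_mul, map_mul, map_inv]
      exact hclose.conj (R c)
    exact blichfeldt_stab R y ε hclose (c⁻¹ * y * c) ε (hnorm k₁) h1
  -- the stabiliser of `K`
  let S : Subgroup G :=
    { carrier := {h | ∀ v, v ∈ K ↔ R h v ∈ K}
      one_mem' := by intro v; simp
      mul_mem' := by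
        intro h1 h2 hh1 hh2 v
        rw [map_mul]
        show v ∈ K ↔ R h1 (R h2 v) ∈ K
        rw [hh2 v, hh1 (R h2 v)]
      inv_mem' := by
        intro h hh v
        have h1 := hh (R h⁻¹ v)
        have h2 : R h (R h⁻¹ v) = v := by
          show (R h * R h⁻¹) v = v
          rw [← map_mul, mul_inv_cancel, map_one]; rfl
        rw [h2] at h1
        exact h1.symm }
  have hmemS : ∀ h : G, (∀ v ∈ K, R h v ∈ K) → h ∈ S := by
    intro h hh v
    refine ⟨hh v, fun hv => ?_⟩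
    -- `R h` restricted to `K` is injective, hence surjective
    have hmap : K.map ((R h).toLinearEquiv : EuclideanSpace ℂ (Fin n) →ₗ[ℂ] _) ≤ K := by
      rintro _ ⟨w, hw, rfl⟩
      exact hh w hw
    have heq : K.map ((R h).toLinearEquiv : EuclideanSpace ℂ (Fin n) →ₗ[ℂ] _) = K := by
      apply Submodule.eq_of_le_of_finrank_eq hmap
      exact LinearEquiv.finrank_map_eq (R h).toLinearEquiv K
    have : R h v ∈ K.map ((R h).toLinearEquiv : EuclideanSpace ℂ (Fin n) →ₗ[ℂ] _) := by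
      rw [heq]; exact hv
    obtain ⟨w, hw, hwv⟩ := this
    have : w = v := (R h).injective hwv
    rw [← this]; exact hw
  have hnormal : Subgroup.normalClosure ({y} : Set G) ≤ S := by
    rw [Subgroup.normalClosure, Subgroup.closure_le]
    intro z hz
    rw [Group.mem_conjugatesOfSet_iff] at hz
    obtain ⟨y', hy', hconjz⟩ := hz
    rw [Set.mem_singleton_iff] at hy'
    subst hy'
    rw [isConj_iff] at hconjz
    obtain ⟨c, hc⟩ := hconjz
    apply hmemS
    have := hconj c⁻¹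
    rw [inv_inv] at this
    rw [← hc]
    exact this
  have htop : Subgroup.normalClosure ({y} : Set G) = ⊤ := by
    have hne : Subgroup.normalClosure ({y} : Set G) ≠ ⊥ := by
      intro h
      have : y ∈ Subgroup.normalClosure ({y} : Set G) :=
        Subgroup.subset_normalClosure (Set.mem_singleton y)
      rw [h, Subgroup.mem_bot] at this
      exact hyne this
    exact (IsSimpleGroup.eq_bot_or_eq_top_of_normal _ Subgroup.normalClosure_normal).resolve_left hne
  have hStop : ∀ h : G, h ∈ S := fun h => hnormal (by rw [htop]; trivial)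
  have hKinv : ∀ h, ∀ w ∈ K, R h w ∈ K := fun h w hw => ((hStop h) w).1 hw
  have hk1 : (b k₁ : EuclideanSpace ℂ (Fin n)) ∈ K := mem_eig.2 (hRy k₁)
  have hk1ne : (b k₁ : EuclideanSpace ℂ (Fin n)) ≠ 0 := b.orthonormal.ne_zero k₁
  rcases hirr K hKinv with hbot | htopK
  · rw [hbot, Submodule.mem_bot] at hk1
    exact hk1ne hk1
  · -- `R y` is the scalar `ε`, so `y` is central
    have hscal : ∀ v, R y v = ε • v := fun v => by
      have hv : v ∈ K := by rw [htopK]; trivial
      exact mem_eig.1 hv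
    have hcen : y ∈ Subgroup.center G := by
      rw [Subgroup.mem_center_iff]
      intro g
      apply hinj
      rw [map_mul, map_mul]
      refine LinearIsometryEquiv.ext fun v => ?_
      show R g (R y v) = R y (R g v)
      rw [hscal, hscal, map_smul]
    have hcne : Subgroup.center G ≠ ⊥ := by
      intro h
      rw [h, Subgroup.mem_bot] at hcen
      exact hyne hcen
    have hctop : Subgroup.center G = ⊤ :=
      (IsSimpleGroup.eq_bot_or_eq_top_of_normal _ inferInstance).resolve_left hcne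
    apply hgh
    have hg : g₀ ∈ Subgroup.center G := by rw [hctop]; trivial
    exact ((Subgroup.mem_center_iff.mp hg) h₀).symm

end Cfsg.Agent.Lib.H1.BB
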